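import Cfsg.Agent.H90.Oliver
import Cfsg.Agent.H91.Small.Essential
import Cfsg.Agent.FusionSys.ModelRealize

/-!
Saturated systems over groups of Heisenberg type over a field: a non-trivial normal subgroup forces a model.
-/

set_option autoImplicit false
set_option linter.style.haveILetI false
set_option linter.unusedSectionVars false

namespace Cfsg.Agent.H91.Exotic

open Cfsg Cfsg.FusionSystem Cfsg.Agent.FusionSys
open Cfsg.FusionSystem (centralizerIn normalizerIn)
open Cfsg.Agent.H90.CI (zc mem_zc zc_le)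
open scoped commutatorElement

universe u

variable {Ω : Type u} [Group Ω] {S : Subgroup Ω} [Finite S] {p : ℕ} [hp : Fact p.Prime]
  {F : FusionSystem S}

/-- Class two, centralizers of non-central elements abelian of index the order of the centre. -/
structure Heis (S : Subgroup Ω) : Prop where
  comm_mem : ∀ a ∈ S, ∀ b ∈ S, ⁅a, b⁆ ∈ zc S
  cent_abel : ∀ w ∈ S, w ∉ zc S → ∀ u ∈ S, ∀ v ∈ S, w * u = u * w → w * v = v * w → u * v = v * u
  cent_card : ∀ w ∈ S, w ∉ zc S →
    Nat.card ↥(S ⊓ Subgroup.centralizer ({w} : Set Ω)) * Nat.card (zc S) = Nat.card S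

/-- An abelian self-centralizing subgroup of `S`. -/
def Member (S E : Subgroup Ω) : Prop :=
  E ≤ S ∧ (∀ u ∈ E, ∀ v ∈ E, u * v = v * u) ∧ centralizerIn S E ≤ E

theorem zc_comm {z y : Ω} (hz : z ∈ zc S) (hy : y ∈ S) : z * y = y * z := by
  exact ((mem_zc.1 hz).2 y hy).symm

theorem zc_fix {z g : Ω} (hz : z ∈ zc S) (hg : g ∈ S) : g * z * g⁻¹ = z := by
  rw [← zc_comm hz hg, mul_inv_cancel_right]

theorem zc_le_of_centralizer {E : Subgroup Ω} (hES : E ≤ S) (hc : centralizerIn S E ≤ E) : zc S ≤ E :=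
  fun _ hz => hc (FusionSys.mem_centralizerIn.2 ⟨zc_le hz, fun _ hy => (zc_comm hz (hES hy)).symm⟩)

namespace Heis

variable (H : Heis S)
include H

theorem normal_of_zc_le {E : Subgroup Ω} (hES : E ≤ S) (hZ : zc S ≤ E) :
    S ≤ Subgroup.normalizer (E : Set Ω) := by
  haveI := finite_of_le hES
  intro g hg
  refine mem_normalizer_of_maps fun v hv => ?_
  rw [show g * v * g⁻¹ = ⁅g, v⁆ * v by rw [commutatorElement_def, inv_mul_cancel_right]]
  exact E.mul_mem (hZ (H.comm_mem g hg v (hES hv))) hv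

theorem member_eq {E : Subgroup Ω} (hE : Member S E) {w : Ω} (hw : w ∈ E) (hwZ : w ∉ zc S) :
    E = S ⊓ Subgroup.centralizer ({w} : Set Ω) := by
  refine le_antisymm (fun x hx => ⟨hE.1 hx, Subgroup.mem_centralizer_singleton_iff.2 (hE.2.1 x hx w hw)⟩) ?_
  rintro x ⟨hxS, hxw⟩
  exact hE.2.2 (FusionSys.mem_centralizerIn.2 ⟨hxS, fun y hy => H.cent_abel w (hE.1 hw) hwZ y (hE.1 hy) x hxS
    (hE.2.1 w hw y hy) (Subgroup.mem_centralizer_singleton_iff.1 hxw).symm⟩)

theorem member_inf {E E' : Subgroup Ω} (hE : Member S E) (hE' : Member S E') (hne : E ≠ E') :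
    E ⊓ E' ≤ zc S := by
  rintro w ⟨hw, hw'⟩
  by_contra hwZ
  exact hne ((H.member_eq hE hw hwZ).trans (H.member_eq hE' hw' hwZ).symm)

theorem exists_outside {E : Subgroup Ω} (hE : Member S E) (hlt : E < S) : ∃ w ∈ E, w ∉ zc S := by
  by_contra hall
  push Not at hall
  refine hlt.not_ge fun s hs => hE.2.2 (FusionSys.mem_centralizerIn.2 ⟨hs, fun y hy => ?_⟩)
  exact zc_comm (hall y hy) hs

theorem member_card {E : Subgroup Ω} (hE : Member S E) (hlt : E < S) :
    Nat.card E * Nat.card (zc S) = Nat.card S := by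
  obtain ⟨w, hw, hwZ⟩ := H.exists_outside hE hlt
  rw [H.member_eq hE hw hwZ]
  exact H.cent_card w (hE.1 hw) hwZ

theorem fix_iff {E : Subgroup Ω} (hE : Member S E) {s : Ω} (hs : s ∈ S) (hsE : s ∉ E) {y : Ω}
    (hy : y ∈ E) (h : s * y * s⁻¹ = y) : y ∈ zc S := by
  by_contra hyZ
  refine hsE ((H.member_eq hE hy hyZ).ge ⟨hs, Subgroup.mem_centralizer_singleton_iff.2 ?_⟩)
  exact mul_inv_eq_iff_eq_mul.1 h

/-- Two elements in different cosets of a member with the same value. -/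
theorem collide {E : Subgroup Ω} (hE : Member S E) (hlt : E < S) {β : Type*} [Finite β] (f : ↥S → β)
    (hcard : Nat.card β < Nat.card (zc S)) : ∃ c d : ↥S, (c : Ω)⁻¹ * d ∉ E ∧ f c = f d := by
  have hidx : Nat.card (↥S ⧸ E.subgroupOf S) = Nat.card (zc S) := by
    haveI := finite_of_le hE.1
    rw [← Subgroup.index_eq_card]
    refine Nat.eq_of_mul_eq_mul_left (Nat.card_pos (α := E.subgroupOf S)) ?_
    rw [Subgroup.card_mul_index, Nat.card_congr (Subgroup.subgroupOfEquivOfLe hE.1).toEquiv,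
      H.member_card hE hlt]
  obtain ⟨c, d, hcd, hf⟩ : ∃ c d : ↥S ⧸ E.subgroupOf S, c ≠ d ∧ f c.out = f d.out := by
    by_contra hall
    push Not at hall
    have := Nat.card_le_card_of_injective (fun c : ↥S ⧸ E.subgroupOf S => f c.out)
      fun c d h => by_contra fun hne => hall c d hne h
    omega
  refine ⟨c.out, d.out, fun h => hcd ?_, hf⟩
  rw [← QuotientGroup.out_eq' c, ← QuotientGroup.out_eq' d]
  exact QuotientGroup.eq.2 h

variable (hS : IsPGroup p S) (hF : F.IsSaturated p)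
include hS hF

theorem member_of_essential {E : Subgroup Ω} (hE : F.IsEssential p E) : Member S E := by
  have hES := hE.1.1
  have hc := centralizerIn_le_of_isCentric hE.1
  refine ⟨hES, ?_, hc⟩
  by_contra hnab
  push Not at hnab
  obtain ⟨u, hu, v, hv, huv⟩ := hnab
  have hZ := zc_le_of_centralizer hES hc
  have hchar : ∀ w ∈ E, (∀ y ∈ E, w * y = y * w) → w ∈ zc S := fun w hw h => by
    by_contra hwZ
    exact huv (H.cent_abel w (hES hw) hwZ u (hES hu) v (hES hv) (h u hu) (h v hv))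
  obtain ⟨g, hg, hgE⟩ := SetLike.exists_of_lt (lt_of_isEssential hS hF hE)
  refine hgE (Cfsg.Agent.H90.Oliver.mem_of_stabilize hS hF hE hZ (fun α hα z hz => ?_)
    ⟨hg, H.normal_of_zc_le hES hZ hg⟩ (fun z hz => zc_fix hz hg) fun y hy => ?_)
  · refine hchar _ (autMap_mem α (hZ hz)) fun y hy => ?_
    obtain ⟨x, hx, rfl⟩ := (isIso_autMap hES hα).exists_preimage hy
    have hm := (mem_autGroup_iff hES).1 hα
    rw [← hm.map_mul (hZ hz) hx, ← hm.map_mul hx (hZ hz), zc_comm hz (hES hx)]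
  · rw [show y⁻¹ * (g * y * g⁻¹) = ⁅y⁻¹, g⁆ by simp [commutatorElement_def, mul_assoc]]
    exact H.comm_mem _ (S.inv_mem (hES hy)) g hg

/-- No essential subgroup has a non-trivial invariant subgroup of the centre. -/
theorem no_invariant {E : Subgroup Ω} (hE : F.IsEssential p E) {Q : Subgroup Ω} (hQ : Q ≠ ⊥)
    (hQZ : Q ≤ zc S) (hinv : ∀ α ∈ F.autGroup E, ∀ x ∈ Q, autMap α x ∈ Q) : False := by
  have hM := H.member_of_essential hS hF hE
  have hlt : E < S := lt_of_isEssential hS hF hE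
  obtain ⟨hES, hab, hc⟩ := id hM
  have hZ := zc_le_of_centralizer hES hc
  have hn := H.normal_of_zc_le hES hZ
  haveI := finite_of_le hES
  haveI := finite_autGroup F hES
  haveI := finite_of_le (show zc S ≤ S from zc_le)
  haveI := finite_of_le (hQZ.trans zc_le)
  have hconj : ∀ {s : Ω}, s ∈ S → ∀ y ∈ E, y⁻¹ * (s * y * s⁻¹) ∈ zc S := fun {s} hs y hy => by
    rw [show y⁻¹ * (s * y * s⁻¹) = ⁅y⁻¹, s⁆ by simp [commutatorElement_def, mul_assoc]]
    exact H.comm_mem _ (S.inv_mem (hES hy)) s hs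
  -- the centre is invariant
  have hZinv : ∀ γ ∈ F.autGroup E, ∀ z ∈ zc S, autMap γ z ∈ zc S := by
    by_contra hcon
    push Not at hcon
    obtain ⟨γ, hγ, z, hz, hvZ⟩ := hcon
    set v := autMap γ z with hv_def
    have hv : v ∈ E := autMap_mem γ (hZ hz)
    let Xv : Subgroup (F.autGroup E) :=
      { carrier := {δ | v⁻¹ * autMap (δ : MulAut E) v ∈ Q}
        one_mem' := by simp [Cfsg.Agent.FusionSys.autMap_one hv, Q.one_mem]
        mul_mem' := fun {δ ε} hd he => by
          have hm := (mem_autGroup_iff hES).1 δ.2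
          have h1 := hinv _ δ.2 _ he
          rw [hm.map_mul (E.inv_mem hv) (autMap_mem _ hv), hm.map_inv hv] at h1
          have := Q.mul_mem hd h1
          show v⁻¹ * autMap ((δ * ε : F.autGroup E) : MulAut E) v ∈ Q
          rw [Subgroup.coe_mul, autMap_mul _ _ hv]
          rwa [mul_assoc, mul_inv_cancel_left] at this
        inv_mem' := fun {δ} hd => by
          have hm := (mem_autGroup_iff hES).1 ((F.autGroup E).inv_mem δ.2)
          have h1 := Q.inv_mem (hinv _ ((F.autGroup E).inv_mem δ.2) _ hd)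
          rw [hm.map_mul (E.inv_mem hv) (autMap_mem _ hv), hm.map_inv hv, ← autMap_mul _ _ hv, inv_mul_cancel,
            Cfsg.Agent.FusionSys.autMap_one hv, mul_inv_rev, inv_inv] at h1
          exact h1 }
    obtain ⟨-, A, hA⟩ := isFullyAutomized_of_isFullyNormalized hS hF hE.2.1
    set γ' : F.autGroup E := ⟨γ, hγ⟩
    have hA' : ∀ {a : F.autGroup E}, a ∈ (A : Subgroup (F.autGroup E)) →
        ∃ s ∈ S, ∀ y ∈ E, autMap (a : MulAut E) y = s * y * s⁻¹ := by
      intro a ha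
      rw [hA] at ha
      obtain ⟨s, hs, hsn, he⟩ := mem_autInducedBy.1 (ha : (a : MulAut E) ∈ autInducedBy S E)
      exact ⟨s, hs, fun y hy => by rw [show (a : MulAut E) = conjAut hsn from he, autMap_conjAut hsn hy]; rfl⟩
    have hle : ((γ' • A : Sylow p (F.autGroup E)) : Subgroup (F.autGroup E)) ≤ Xv := by
      intro x hx
      rw [Sylow.coe_subgroup_smul] at hx
      obtain ⟨a, ha, rfl⟩ := hx
      obtain ⟨s, hs, hsa⟩ := hA' ha
      show v⁻¹ * autMap ((γ' * a * γ'⁻¹ : F.autGroup E) : MulAut E) v ∈ Q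
      rw [Subgroup.coe_mul, Subgroup.coe_mul, Subgroup.coe_inv, autMap_mul _ _ hv,
        autMap_mul _ _ (autMap_mem _ hv)]
      show v⁻¹ * autMap γ (autMap (a : MulAut E) (autMap γ⁻¹ (autMap γ z))) ∈ Q
      rw [← autMap_mul γ⁻¹ γ (hZ hz), inv_mul_cancel, Cfsg.Agent.FusionSys.autMap_one (hZ hz),
        hsa z (hZ hz), zc_fix hz hs, ← hv_def, inv_mul_cancel]
      exact Q.one_mem
    -- a non-trivial element of `S` fixing `v` modulo `Q`
    obtain ⟨s, hs, hsE, hsv⟩ : ∃ s ∈ S, s ∉ E ∧ v⁻¹ * (s * v * s⁻¹) ∈ Q := by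
      obtain ⟨c, d, hcd, hf⟩ := H.collide hM hlt (β := ↥(zc S) ⧸ Q.subgroupOf (zc S))
        (fun c => QuotientGroup.mk (⟨_, hconj c.2 v hv⟩ : ↥(zc S))) (by
          rw [← Subgroup.index_eq_card]
          refine lt_of_lt_of_eq (lt_mul_of_one_lt_left Subgroup.index_ne_zero_of_finite.bot_lt ?_)
            (Subgroup.card_mul_index (Q.subgroupOf (zc S)))
          rw [Nat.card_congr (Subgroup.subgroupOfEquivOfLe hQZ).toEquiv]
          exact (Subgroup.one_lt_card_iff_ne_bot Q).2 hQ)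
      refine ⟨_, S.mul_mem (S.inv_mem c.2) d.2, hcd, ?_⟩
      have hq : (v⁻¹ * ((c : Ω) * v * (c : Ω)⁻¹))⁻¹ * (v⁻¹ * ((d : Ω) * v * (d : Ω)⁻¹)) ∈ Q :=
        (QuotientGroup.eq (s := Q.subgroupOf (zc S))).1 hf
      set q := (v⁻¹ * ((c : Ω) * v * (c : Ω)⁻¹))⁻¹ * (v⁻¹ * ((d : Ω) * v * (d : Ω)⁻¹)) with hq_def
      have hd : (d : Ω) * v * (d : Ω)⁻¹ = (c : Ω) * v * (c : Ω)⁻¹ * q := by rw [hq_def]; group
      rw [show (c : Ω)⁻¹ * d * v * ((c : Ω)⁻¹ * d)⁻¹ = (c : Ω)⁻¹ * ((d : Ω) * v * (d : Ω)⁻¹) * c by group,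
        hd, show v⁻¹ * ((c : Ω)⁻¹ * ((c : Ω) * v * (c : Ω)⁻¹ * q) * c) = (c : Ω)⁻¹ * q * c by group,
        mul_assoc, zc_comm (hQZ hq) c.2, inv_mul_cancel_left]
      exact hq
    set a : F.autGroup E := ⟨conjAut (hn hs), conjAut_mem_autGroup F hES ⟨hs, hn hs⟩⟩
    have hav : ∀ y ∈ E, autMap (a : MulAut E) y = s * y * s⁻¹ := fun y hy => autMap_conjAut (hn hs) hy
    have haX : a ∈ Xv := by
      show v⁻¹ * autMap (a : MulAut E) v ∈ Q
      rw [hav v hv]
      exact hsv
    have hap : IsPGroup p ((Subgroup.zpowers a).subgroupOf Xv) := by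
      have haA : a ∈ (A : Subgroup (F.autGroup E)) := by
        rw [hA]
        exact (mem_autInducedBy.2 ⟨s, hs, hn hs, rfl⟩ : conjAut (hn hs) ∈ autInducedBy S E)
      exact (A.isPGroup'.to_le (Subgroup.zpowers_le.2 haA)).comap_of_injective Xv.subtype Xv.subtype_injective
    obtain ⟨T, hT⟩ := hap.exists_le_sylow
    obtain ⟨x, hx⟩ := MulAction.exists_smul_eq Xv ((γ' • A).subtype hle) T
    have haT : (⟨a, haX⟩ : Xv) ∈ (T : Subgroup Xv) := hT (Subgroup.mem_zpowers a)
    rw [← hx, Sylow.coe_subgroup_smul] at haT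
    obtain ⟨b', hb', hba⟩ := haT
    have hb'' : (b' : F.autGroup E) ∈ ((γ' • A : Sylow p (F.autGroup E)) : Subgroup (F.autGroup E)) := hb'
    rw [Sylow.coe_subgroup_smul] at hb''
    obtain ⟨b, hb, hbb⟩ := hb''
    set δ : F.autGroup E := (x : F.autGroup E) * γ'
    have hab' : a = δ * b * δ⁻¹ := by
      have h1 : (x : F.autGroup E) * b' * (x : F.autGroup E)⁻¹ = a := congrArg Subtype.val hba
      have h2 : γ' * b * γ'⁻¹ = b' := hbb
      rw [← h1, ← h2]
      simp only [δ]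
      group
    obtain ⟨s₁, hs₁, hs₁b⟩ := hA' hb
    have hδ : ∀ y ∈ zc S, autMap (δ : MulAut E) y ∈ zc S := by
      intro y hy
      have hyE := hZ hy
      refine H.fix_iff hM hs hsE (autMap_mem _ hyE) ?_
      rw [← hav _ (autMap_mem _ hyE), hab', Subgroup.coe_mul, Subgroup.coe_mul, Subgroup.coe_inv,
        autMap_mul _ _ (autMap_mem _ hyE), autMap_mul _ _ (autMap_mem _ (autMap_mem _ hyE)),
        ← autMap_mul _ (δ : MulAut E) hyE, inv_mul_cancel, Cfsg.Agent.FusionSys.autMap_one hyE, hs₁b y hyE,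
        zc_fix hy hs₁]
    have hδi : ∀ y ∈ zc S, autMap ((δ : MulAut E)⁻¹) y ∈ zc S := by
      intro y hy
      obtain ⟨y', hy', rfl⟩ := ((((mem_autGroup_iff hES).1 δ.2).mono hZ).image_eq_of_mapsTo hδ).ge hy
      rw [← autMap_mul _ _ (hZ hy'), inv_mul_cancel, Cfsg.Agent.FusionSys.autMap_one (hZ hy')]
      exact hy'
    -- the automorphisms stabilizing the centre come from `S`
    let K : Subgroup (MulAut E) :=
      { carrier := {α | α ∈ F.autGroup E ∧ (∀ y ∈ zc S, autMap α y = y) ∧ ∀ y ∈ E, y⁻¹ * autMap α y ∈ zc S}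
        one_mem' := ⟨one_mem _, fun y hy => Cfsg.Agent.FusionSys.autMap_one (hZ hy),
          fun y hy => by simp [Cfsg.Agent.FusionSys.autMap_one hy, (zc S).one_mem]⟩
        mul_mem' := fun {α β} ha hb => by
          refine ⟨mul_mem ha.1 hb.1, fun y hy => by rw [autMap_mul _ _ (hZ hy), hb.2.1 y hy, ha.2.1 y hy],
            fun y hy => ?_⟩
          rw [autMap_mul _ _ hy]
          have := (zc S).mul_mem (hb.2.2 y hy) (ha.2.2 _ (autMap_mem β hy))
          rwa [mul_assoc, mul_inv_cancel_left] at this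
        inv_mem' := fun {α} ha => by
          refine ⟨inv_mem ha.1, fun y hy => ?_, fun y hy => ?_⟩
          · have := autMap_inv_apply α⁻¹ (hZ hy)
            rw [inv_inv, ha.2.1 y hy] at this
            exact this
          · have := (zc S).inv_mem (ha.2.2 _ (autMap_mem α⁻¹ hy))
            rwa [autMap_inv_apply _ hy, mul_inv_rev, inv_inv] at this }
    have hKp : IsPGroup p K := by
      obtain ⟨k, hk⟩ := (hS.to_le zc_le).exists_card_eq (G := ↥(zc S))
      rintro ⟨α, hα⟩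
      refine ⟨k, Subtype.ext (aut_ext fun y hy => ?_)⟩
      show autMap (α ^ p ^ k) y = autMap (1 : MulAut E) y
      have hm := (mem_autGroup_iff hES).1 hα.1
      have hd : y⁻¹ * autMap α y ∈ zc S := hα.2.2 y hy
      have hind : ∀ m : ℕ, autMap (α ^ m) y = y * (y⁻¹ * autMap α y) ^ m := by
        intro m
        induction m with
        | zero => rw [pow_zero, Cfsg.Agent.FusionSys.autMap_one hy, pow_zero, mul_one]
        | succ m ih =>
          rw [pow_succ', autMap_mul _ _ hy, ih, hm.map_mul hy (E.pow_mem (hZ hd) m),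
            hα.2.1 _ ((zc S).pow_mem hd m), pow_succ', ← mul_assoc, mul_inv_cancel_left]
      have h1 : (⟨_, hd⟩ : ↥(zc S)) ^ p ^ k = 1 := by rw [← hk]; exact pow_card_eq_one'
      rw [hind, show (y⁻¹ * autMap α y) ^ p ^ k = 1 from congrArg Subtype.val h1, mul_one,
        Cfsg.Agent.FusionSys.autMap_one hy]
    have hKle : K ≤ autInducedBy S E := Cfsg.Agent.H91.Small.le_autInducedBy hS hF hE.2.1 (K := K)
      (fun _ h => h.1) hKp fun α hα => by
        obtain ⟨t, ht, htn, rfl⟩ := mem_autInducedBy.1 hα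
        exact ⟨conjAut_mem_autGroup F hES ⟨ht, htn⟩,
          fun y hy => by rw [autMap_conjAut htn (hZ hy)]; exact zc_fix hy ht,
          fun y hy => by rw [autMap_conjAut htn hy]; exact hconj ht y hy⟩
    have hall : ∀ t ∈ S, v⁻¹ * (t * v * t⁻¹) ∈ Q := by
      intro t ht
      set c : F.autGroup E := δ⁻¹ * ⟨conjAut (hn ht), conjAut_mem_autGroup F hES ⟨ht, hn ht⟩⟩ * δ with hc_def
      have ec : ∀ y ∈ E, autMap (c : MulAut E) y
          = autMap ((δ : MulAut E)⁻¹) (t * autMap (δ : MulAut E) y * t⁻¹) := fun y hy => by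
        rw [hc_def, Subgroup.coe_mul, Subgroup.coe_mul, Subgroup.coe_inv, autMap_mul _ _ hy,
          autMap_mul _ _ (autMap_mem _ hy), autMap_conjAut (hn ht) (autMap_mem _ hy)]
        rfl
      have hcA : c ∈ (A : Subgroup (F.autGroup E)) := by
        rw [hA]
        refine hKle (show (c : MulAut E) ∈ K from ⟨c.2, fun y hy => ?_, fun y hy => ?_⟩)
        · rw [ec y (hZ hy), zc_fix (hδ y hy) ht, ← autMap_mul _ _ (hZ hy), inv_mul_cancel,
            Cfsg.Agent.FusionSys.autMap_one (hZ hy)]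
        · have hw := autMap_mem (δ : MulAut E) hy
          have := hδi _ (hconj ht _ hw)
          have hm := (mem_autGroup_iff hES).1 ((F.autGroup E).inv_mem δ.2)
          rw [hm.map_mul (E.inv_mem hw) ((Subgroup.mem_normalizer_iff.1 (hn ht) _).1 hw), hm.map_inv hw,
            ← autMap_mul _ _ hy, inv_mul_cancel, Cfsg.Agent.FusionSys.autMap_one hy] at this
          rw [ec y hy]
          exact this
      have hmem : δ * c * δ⁻¹ ∈ Xv := by
        rw [show δ * c * δ⁻¹ = (x : F.autGroup E) * (γ' * c * γ'⁻¹) * (x : F.autGroup E)⁻¹ by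
          simp only [δ]; group]
        refine Xv.mul_mem (Xv.mul_mem x.2 (hle ?_)) (Xv.inv_mem x.2)
        rw [Sylow.coe_subgroup_smul]
        exact ⟨c, hcA, rfl⟩
      rw [show δ * c * δ⁻¹ = ⟨conjAut (hn ht), conjAut_mem_autGroup F hES ⟨ht, hn ht⟩⟩ by
        rw [hc_def]; group] at hmem
      have h' : v⁻¹ * autMap (conjAut (hn ht)) v ∈ Q := hmem
      rwa [autMap_conjAut (hn ht) hv] at h'
    have hQeq : Q = zc S := by
      refine Subgroup.eq_of_le_of_card_ge hQZ ?_
      by_contra hQlt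
      obtain ⟨c, d, hcd, hf⟩ := H.collide hM hlt (β := ↥Q) (fun c => ⟨_, hall c c.2⟩) (not_le.1 hQlt)
      refine hvZ (H.fix_iff hM (S.mul_mem (S.inv_mem c.2) d.2) hcd hv ?_)
      have h' : (c : Ω) * v * (c : Ω)⁻¹ = (d : Ω) * v * (d : Ω)⁻¹ :=
        mul_left_cancel (congrArg Subtype.val hf)
      calc (c : Ω)⁻¹ * d * v * ((c : Ω)⁻¹ * d)⁻¹ = (c : Ω)⁻¹ * ((d : Ω) * v * (d : Ω)⁻¹) * c := by group
        _ = v := by rw [← h']; group
    exact hvZ (hQeq ▸ hinv γ hγ z (hQeq.symm ▸ hz))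
  obtain ⟨g, hg, hgE⟩ := SetLike.exists_of_lt hlt
  exact hgE (Cfsg.Agent.H90.Oliver.mem_of_stabilize hS hF hE hZ hZinv ⟨hg, hn hg⟩
    (fun z hz => zc_fix hz hg) (hconj hg))

/-- With a non-trivial normal subgroup the system is constrained. -/
theorem isConstrained_of_core_ne_bot (hcore : F.core ≠ ⊥) : F.IsConstrained p := by
  set Q := F.core
  have hQ : F.IsNormal Q := Cfsg.Agent.H89.isNormal_core F
  have hQall := (isNormal_iff_essential hS hF).1 hQ
  haveI := finite_of_le hQ.1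
  refine ⟨hF, ?_⟩
  by_cases hQZ : Q ≤ zc S
  · have hno : ∀ P, ¬ F.IsEssential p P := fun P hP =>
      H.no_invariant hS hF hP hcore hQZ fun α hα x hx =>
        ((hQall P (Or.inr hP)).2 α hα).le ⟨x, hx, rfl⟩
    refine ⟨S, isNormal_of_essential hS hF fun P hP => ?_, isCentric_S F⟩
    rcases hP with rfl | hP
    · exact ⟨le_rfl, fun α _ => image_autMap α⟩
    · exact absurd hP (hno P)
  by_cases hex : ∃ E, F.IsEssential p E
  · obtain ⟨E₀, hE₀⟩ := hex
    have key : ∀ E', Member S E' → Q ≤ E' → E' = E₀ := fun E' hM hQE => by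
      by_contra hne
      exact hQZ ((le_inf hQE (hQall E₀ (Or.inr hE₀)).1).trans
        (H.member_inf hM (H.member_of_essential hS hF hE₀) hne))
    refine ⟨E₀, isNormal_of_essential hS hF fun P hP => ?_, hE₀.1⟩
    rcases hP with rfl | hP
    · refine ⟨hE₀.1.1, fun α hα => ?_⟩
      have hf : IsMap F E₀ (autMap α) := ((mem_autGroup_iff le_rfl).1 hα).mono hE₀.1.1
      have hM₀ := H.member_of_essential hS hF hE₀
      have hM : Member P (imgSub (autMap α) E₀) := by
        refine ⟨hf.imgSub_le, fun u hu v hv => ?_,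
          centralizerIn_le_of_isCentric (isCentric_of_isConj hE₀.1 hf.isIso.isConj)⟩
        obtain ⟨u', hu', rfl⟩ := hf.mem_imgSub.1 hu
        obtain ⟨v', hv', rfl⟩ := hf.mem_imgSub.1 hv
        rw [← hf.map_mul hu' hv', hM₀.2.1 u' hu' v' hv', hf.map_mul hv' hu']
      rw [← hf.coe_imgSub, key _ hM fun y hy => ?_]
      obtain ⟨w, hw, rfl⟩ := ((hQall _ (Or.inl rfl)).2 α hα).ge hy
      exact hf.mem_imgSub.2 ⟨w, (hQall E₀ (Or.inr hE₀)).1 hw, rfl⟩
    · have := key P (H.member_of_essential hS hF hP) (hQall P (Or.inr hP)).1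
      subst this
      exact ⟨le_rfl, fun α _ => image_autMap α⟩
  · push Not at hex
    refine ⟨S, isNormal_of_essential hS hF fun P hP => ?_, isCentric_S F⟩
    rcases hP with rfl | hP
    · exact ⟨le_rfl, fun α _ => image_autMap α⟩
    · exact absurd hP (hex P)

/-- An exotic system over such a group has trivial core. -/
theorem core_eq_bot_of_exotic (hex : F.IsExotic p) : F.core = ⊥ := by
  by_contra hcore
  obtain ⟨G, hG, ι, hfin, hreal, hT, -⟩ := exists_model hS F (H.isConstrained_of_core_ne_bot hS hF hcore)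
  exact hex.2 ⟨G, hG, hfin, ι, hreal, hT⟩

end Heis

end Cfsg.Agent.H91.Exotic
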