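import Cfsg.Agent.H91.Exotic.Heisenberg
import Cfsg.Agent.Linear.Unitriangular

/-!
The unitriangular group of degree three over a field is of Heisenberg type.
-/

set_option autoImplicit false
set_option linter.style.haveILetI false
set_option linter.unusedSectionVars false

namespace Cfsg.Agent.H91.Exotic

open Cfsg Cfsg.Agent.Linear Matrix
open Cfsg.Agent.H90.CI (zc mem_zc zc_le)
open scoped commutatorElement

universe v

variable {K : Type v} [Field K]

namespace Uni

/-- The three upper entries. -/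
def X (g : unitriSL 3 K) : K := (g.1 : Matrix (Fin 3) (Fin 3) K) 0 1
def Y (g : unitriSL 3 K) : K := (g.1 : Matrix (Fin 3) (Fin 3) K) 1 2
def W (g : unitriSL 3 K) : K := (g.1 : Matrix (Fin 3) (Fin 3) K) 0 2

theorem shape (g : unitriSL 3 K) :
    (g.1 : Matrix (Fin 3) (Fin 3) K) = !![1, X g, W g; 0, 1, Y g; 0, 0, 1] := by
  obtain ⟨hb, hd⟩ : (Matrix.SpecialLinearGroup.toGL g.1 : Matrix (Fin 3) (Fin 3) K).BlockTriangular id ∧
      ∀ i, (Matrix.SpecialLinearGroup.toGL g.1 : Matrix (Fin 3) (Fin 3) K) i i = 1 := g.2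
  ext i j
  fin_cases i <;> fin_cases j
  · exact hd 0
  · rfl
  · rfl
  · exact hb (i := 1) (j := 0) (by decide)
  · exact hd 1
  · rfl
  · exact hb (i := 2) (j := 0) (by decide)
  · exact hb (i := 2) (j := 1) (by decide)
  · exact hd 2

theorem ext' {g h : unitriSL 3 K} (h1 : X g = X h) (h2 : Y g = Y h) (h3 : W g = W h) : g = h := by
  refine Subtype.ext (Subtype.ext ?_)
  rw [shape g, shape h, h1, h2, h3]

theorem mul_entry (g h : unitriSL 3 K) :
    ((g * h).1 : Matrix (Fin 3) (Fin 3) K) =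
      !![1, X g + X h, W g + W h + X g * Y h; 0, 1, Y g + Y h; 0, 0, 1] := by
  rw [Subgroup.coe_mul, Matrix.SpecialLinearGroup.coe_mul, shape g, shape h]
  ext i j
  fin_cases i <;> fin_cases j <;> simp [Matrix.mul_apply, Fin.sum_univ_three] <;> ring

theorem X_mul (g h : unitriSL 3 K) : X (g * h) = X g + X h :=
  (congrFun (congrFun (mul_entry g h) 0) 1).trans (by simp)

theorem Y_mul (g h : unitriSL 3 K) : Y (g * h) = Y g + Y h :=
  (congrFun (congrFun (mul_entry g h) 1) 2).trans (by simp)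

theorem W_mul (g h : unitriSL 3 K) : W (g * h) = W g + W h + X g * Y h :=
  (congrFun (congrFun (mul_entry g h) 0) 2).trans (by simp)

theorem comm_iff (g h : unitriSL 3 K) : g * h = h * g ↔ X g * Y h = X h * Y g := by
  constructor
  · intro e
    have := congrArg W e
    rw [W_mul, W_mul] at this
    linear_combination this
  · intro e
    refine ext' ?_ ?_ ?_ <;> simp only [X_mul, Y_mul, W_mul]
    · ring
    · ring
    · linear_combination e

/-- The element with given entries. -/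
def mk (x y w : K) : unitriSL 3 K :=
  ⟨⟨!![1, x, w; 0, 1, y; 0, 0, 1], by simp [Matrix.det_fin_three]⟩, by
    refine ⟨fun i j hij => ?_, fun i => ?_⟩
    · show (!![1, x, w; 0, 1, y; 0, 0, 1] : Matrix (Fin 3) (Fin 3) K) i j = 0
      fin_cases i <;> fin_cases j <;> simp_all
    · show (!![1, x, w; 0, 1, y; 0, 0, 1] : Matrix (Fin 3) (Fin 3) K) i i = 1
      fin_cases i <;> simp⟩

theorem X_mk (x y w : K) : X (mk x y w) = x := rfl
theorem Y_mk (x y w : K) : Y (mk x y w) = y := rfl
theorem W_mk (x y w : K) : W (mk x y w) = w := rfl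

theorem mem_center {g : unitriSL 3 K} : g ∈ Subgroup.center (unitriSL 3 K) ↔ X g = 0 ∧ Y g = 0 := by
  rw [Subgroup.mem_center_iff]
  constructor
  · intro h
    have h1 := (comm_iff _ _).1 (h (mk 1 0 0))
    have h2 := (comm_iff _ _).1 (h (mk 0 1 0))
    simp only [X_mk, Y_mk, one_mul, mul_zero, zero_mul, mul_one] at h1 h2
    exact ⟨h2.symm, h1⟩
  · rintro ⟨h1, h2⟩ h
    rw [comm_iff, h1, h2, mul_zero, zero_mul]

theorem one_entries : X (1 : unitriSL 3 K) = 0 ∧ Y (1 : unitriSL 3 K) = 0 := by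
  have h1 := X_mul (1 : unitriSL 3 K) 1
  have h2 := Y_mul (1 : unitriSL 3 K) 1
  rw [one_mul] at h1 h2
  exact ⟨left_eq_add.1 h1, left_eq_add.1 h2⟩

theorem comm_mem_center (g h : unitriSL 3 K) : ⁅g, h⁆ ∈ Subgroup.center (unitriSL 3 K) := by
  have key : ⁅g, h⁆ * (h * g) = g * h := by
    rw [commutatorElement_def]
    group
  have h1 := congrArg X key
  have h2 := congrArg Y key
  simp only [X_mul, Y_mul] at h1 h2
  exact mem_center.2 ⟨by linear_combination h1, by linear_combination h2⟩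

theorem cent_abel {w : unitriSL 3 K} (hw : w ∉ Subgroup.center (unitriSL 3 K)) {u v : unitriSL 3 K}
    (hu : w * u = u * w) (hv : w * v = v * w) : u * v = v * u := by
  rw [comm_iff] at hu hv ⊢
  by_cases hx : X w = 0
  · have hy : Y w ≠ 0 := fun hy => hw (mem_center.2 ⟨hx, hy⟩)
    rw [hx, zero_mul, eq_comm, mul_eq_zero] at hu hv
    rw [hu.resolve_right hy, hv.resolve_right hy, zero_mul, zero_mul]
  · refine mul_left_cancel₀ hx ?_
    linear_combination (X u) * hv - (X v) * hu

theorem cent_card [Finite K] {w : unitriSL 3 K} (hw : w ∉ Subgroup.center (unitriSL 3 K)) :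
    Nat.card (Subgroup.centralizer ({w} : Set (unitriSL 3 K))) * Nat.card (Subgroup.center (unitriSL 3 K))
      = Nat.card (unitriSL 3 K) := by
  let φ : unitriSL 3 K →* Multiplicative K :=
    MonoidHom.mk' (fun g => Multiplicative.ofAdd (X g * Y w - X w * Y g)) fun a b => by
      rw [← ofAdd_add]
      congr 1
      rw [X_mul, Y_mul]
      ring
  have hker : φ.ker = Subgroup.centralizer ({w} : Set (unitriSL 3 K)) := by
    ext g
    rw [MonoidHom.mem_ker, Subgroup.mem_centralizer_singleton_iff, comm_iff]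
    exact ofAdd_eq_one.trans sub_eq_zero
  have hsurj : Function.Surjective φ := by
    intro c
    by_cases hx : X w = 0
    · have hy : Y w ≠ 0 := fun hy => hw (mem_center.2 ⟨hx, hy⟩)
      refine ⟨mk (Multiplicative.toAdd c / Y w) 0 0, ?_⟩
      show Multiplicative.ofAdd _ = c
      rw [X_mk, Y_mk, mul_zero, sub_zero, div_mul_cancel₀ _ hy, ofAdd_toAdd]
    · refine ⟨mk 0 (-(Multiplicative.toAdd c) / X w) 0, ?_⟩
      show Multiplicative.ofAdd _ = c
      rw [X_mk, Y_mk, zero_mul, zero_sub, mul_div_cancel₀ _ hx, neg_neg, ofAdd_toAdd]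
  have hc : Nat.card (Subgroup.center (unitriSL 3 K)) = Nat.card K := by
    refine Nat.card_congr ⟨fun g => W g.1, fun k => ⟨mk 0 0 k, mem_center.2 ⟨rfl, rfl⟩⟩, fun g => ?_, fun k => rfl⟩
    obtain ⟨h1, h2⟩ := mem_center.1 g.2
    exact Subtype.ext (ext' h1.symm h2.symm rfl)
  have hidx : φ.ker.index = Nat.card K := by
    rw [Subgroup.index_ker, MonoidHom.range_eq_top.2 hsurj, Subgroup.card_top]
    rfl
  rw [hc, ← hidx, ← hker, Subgroup.card_mul_index]

end Uni

variable {Ω : Type*} [Group Ω] {S : Subgroup Ω} [Finite S]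

/-- A group isomorphic to the unitriangular group is of Heisenberg type. -/
theorem heis_of_equiv [Finite K] (ψ : ↥S ≃* unitriSL 3 K) : Heis S := by
  have hz : ∀ {a : ↥S}, (a : Ω) ∈ zc S ↔ ψ a ∈ Subgroup.center (unitriSL 3 K) := by
    intro a
    rw [mem_zc, Subgroup.mem_center_iff]
    constructor
    · intro h y
      obtain ⟨g, rfl⟩ := ψ.surjective y
      rw [← map_mul, ← map_mul]
      exact congrArg ψ (Subtype.ext (h.2 g g.2))
    · intro h
      refine ⟨a.2, fun g hg => congrArg Subtype.val (ψ.injective (a₁ := ⟨g, hg⟩ * a) (a₂ := a * ⟨g, hg⟩) ?_)⟩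
      rw [map_mul, map_mul]
      exact h _
  refine ⟨fun a ha b hb => ?_, fun w hw hwZ u hu v hv h1 h2 => ?_, fun w hw hwZ => ?_⟩
  · have h := Uni.comm_mem_center (ψ ⟨a, ha⟩) (ψ ⟨b, hb⟩)
    rw [← map_commutatorElement ψ] at h
    exact (hz (a := ⁅(⟨a, ha⟩ : ↥S), ⟨b, hb⟩⁆)).2 h
  · refine congrArg Subtype.val (ψ.injective (a₁ := ⟨u, hu⟩ * ⟨v, hv⟩) (a₂ := ⟨v, hv⟩ * ⟨u, hu⟩) ?_)
    rw [map_mul, map_mul]
    refine Uni.cent_abel (w := ψ ⟨w, hw⟩) (fun h => hwZ ((hz (a := ⟨w, hw⟩)).2 h)) ?_ ?_ <;>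
      rw [← map_mul, ← map_mul] <;> congr 1 <;> exact Subtype.ext (by assumption)
  · have hzc : Nat.card (zc S) = Nat.card (Subgroup.center (unitriSL 3 K)) :=
      (Subgroup.card_map_of_injective S.subtype_injective).trans
        (Nat.card_congr (Subgroup.centerCongr ψ).toEquiv)
    have hC : Nat.card ↥(S ⊓ Subgroup.centralizer ({w} : Set Ω))
        = Nat.card (Subgroup.centralizer ({ψ ⟨w, hw⟩} : Set (unitriSL 3 K))) := by
      refine Nat.card_congr ((Equiv.subtypeEquivProp ?_).trans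
        ((Equiv.subtypeSubtypeEquivSubtypeInter _ fun x => x * w = w * x).symm.trans
          (Equiv.subtypeEquiv ψ.toEquiv fun a => ?_)))
      · funext x
        exact propext (and_congr Iff.rfl Subgroup.mem_centralizer_singleton_iff)
      · rw [Subgroup.mem_centralizer_singleton_iff, MulEquiv.toEquiv_eq_coe, EquivLike.coe_coe, ← map_mul,
          ← map_mul, ψ.injective.eq_iff, Subtype.ext_iff]
        rfl
    rw [hzc, hC, Uni.cent_card (fun h => hwZ ((hz (a := ⟨w, hw⟩)).2 h))]
    exact (Nat.card_congr ψ.toEquiv).symm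

end Cfsg.Agent.H91.Exotic
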